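import Mathlib

/-!
A group `Γ` acting on a finite abelian group `V`, transitively on "lines": a commutative subring of
`End V` normalised by `Γ` is a field.
-/

set_option autoImplicit false

namespace Cfsg.Agent.H477

section Field

variable {V : Type*} [AddCommGroup V] [Finite V]

instance finite_end_H477 : Finite (AddMonoid.End V) :=
  Finite.of_injective (fun f : AddMonoid.End V => (f : V → V)) DFunLike.coe_injective

/-- The annihilator of a vector in a subring of endomorphisms. -/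
def ann (R : Subring (AddMonoid.End V)) (v : V) : Set (AddMonoid.End V) :=
  {a | a ∈ R ∧ a v = 0}

variable {Γ : Type*} [Group Γ] (ρ : Γ →* AddMonoid.End V)

/-- Transitivity on lines. -/
def LineTrans : Prop := ∀ v w : V, v ≠ 0 → w ≠ 0 → ∃ g : Γ, ∃ k : ℤ, ρ g v = k • w

variable {ρ} {R : Subring (AddMonoid.End V)}

omit [Finite V] in
theorem rho_inv_mul (g : Γ) : ρ g⁻¹ * ρ g = 1 := by rw [← map_mul, inv_mul_cancel, map_one]

omit [Finite V] in
theorem rho_mul_inv (g : Γ) : ρ g * ρ g⁻¹ = 1 := by rw [← map_mul, mul_inv_cancel, map_one]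

theorem ncard_ann_le (hT : LineTrans ρ) (hR : ∀ g : Γ, ∀ a ∈ R, ρ g * a * ρ g⁻¹ ∈ R)
    {v w : V} (hv : v ≠ 0) (hw : w ≠ 0) : (ann R w).ncard ≤ (ann R v).ncard := by
  obtain ⟨g, k, hg⟩ := hT v w hv hw
  refine Set.ncard_le_ncard_of_injOn (fun a => ρ g⁻¹ * a * ρ g) ?_ ?_ (Set.toFinite _)
  · rintro a ⟨haR, ha⟩
    refine ⟨?_, ?_⟩
    · have := hR g⁻¹ a haR
      rwa [inv_inv] at this
    · change ρ g⁻¹ (a (ρ g v)) = 0
      rw [hg, map_zsmul, ha, smul_zero, map_zero]
  · intro a _ b _ hab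
    have h : ρ g * (ρ g⁻¹ * a * ρ g) * ρ g⁻¹ = ρ g * (ρ g⁻¹ * b * ρ g) * ρ g⁻¹ := by
      simp only at hab
      rw [hab]
    have h2 : ∀ c : AddMonoid.End V, ρ g * (ρ g⁻¹ * c * ρ g) * ρ g⁻¹ = c := by
      intro c
      calc ρ g * (ρ g⁻¹ * c * ρ g) * ρ g⁻¹ = (ρ g * ρ g⁻¹) * c * (ρ g * ρ g⁻¹) := by
            simp only [mul_assoc]
        _ = c := by rw [rho_mul_inv, one_mul, mul_one]
    rwa [h2, h2] at h

theorem ann_eq_of_subset (hT : LineTrans ρ) (hR : ∀ g : Γ, ∀ a ∈ R, ρ g * a * ρ g⁻¹ ∈ R)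
    {v w : V} (hv : v ≠ 0) (hw : w ≠ 0) (h : ann R v ⊆ ann R w) : ann R v = ann R w :=
  Set.eq_of_subset_of_ncard_le h (ncard_ann_le hT hR hv hw) (Set.toFinite _)

theorem ann_subset (hT : LineTrans ρ) (hR : ∀ g : Γ, ∀ a ∈ R, ρ g * a * ρ g⁻¹ ∈ R)
    (hcomm : ∀ a ∈ R, ∀ b ∈ R, a * b = b * a) {v w : V} (hv : v ≠ 0) (hw : w ≠ 0) :
    ann R v ⊆ ann R w := by
  rintro a ⟨haR, hav⟩
  by_cases hy : a w = 0
  · exact ⟨haR, hy⟩
  have hyu : a (v + w) = a w := by rw [map_add, hav, zero_add]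
  have hu : v + w ≠ 0 := by
    intro h
    rw [h, map_zero] at hyu
    exact hy hyu.symm
  have hsub : ∀ x : V, ann R x ⊆ ann R (a x) := by
    rintro x b ⟨hbR, hbx⟩
    refine ⟨hbR, ?_⟩
    have h1 := congrArg (fun f : AddMonoid.End V => f x) (hcomm b hbR a haR)
    change b (a x) = a (b x) at h1
    rw [h1, hbx, map_zero]
  have h1 : ann R w = ann R (a w) := ann_eq_of_subset hT hR hw hy (hsub w)
  have h2 : ann R (v + w) = ann R (a w) := by
    have := ann_eq_of_subset hT hR hu (by rw [hyu]; exact hy) (hsub (v + w))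
    rwa [hyu] at this
  have h3 : ann R w ⊆ ann R v := by
    intro b hb
    have hb2 : b ∈ ann R (v + w) := by rw [h2, ← h1]; exact hb
    refine ⟨hb.1, ?_⟩
    have := hb2.2
    rwa [map_add, hb.2, add_zero] at this
  have h4 := ann_eq_of_subset hT hR hw hv h3
  rw [h4]
  exact ⟨haR, hav⟩

/-- Nonzero elements of a commutative subring normalised by `Γ` act injectively. -/
theorem apply_ne_zero (hT : LineTrans ρ) (hR : ∀ g : Γ, ∀ a ∈ R, ρ g * a * ρ g⁻¹ ∈ R)
    (hcomm : ∀ a ∈ R, ∀ b ∈ R, a * b = b * a) {a : AddMonoid.End V} (haR : a ∈ R) (ha : a ≠ 0)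
    {v : V} (hv : v ≠ 0) : a v ≠ 0 := by
  intro hav
  apply ha
  ext w
  by_cases hw : w = 0
  · rw [hw, map_zero, map_zero]
  · exact (ann_subset hT hR hcomm hv hw ⟨haR, hav⟩).2

theorem noZeroDivisors (hT : LineTrans ρ) (hR : ∀ g : Γ, ∀ a ∈ R, ρ g * a * ρ g⁻¹ ∈ R)
    (hcomm : ∀ a ∈ R, ∀ b ∈ R, a * b = b * a) : NoZeroDivisors ↥R := by
  refine ⟨fun {a b} hab => ?_⟩
  by_contra hcon
  push Not at hcon
  obtain ⟨ha, hb⟩ := hcon
  have hb' : (b : AddMonoid.End V) ≠ 0 := fun h => hb (Subtype.ext h)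
  have ha' : (a : AddMonoid.End V) ≠ 0 := fun h => ha (Subtype.ext h)
  obtain ⟨v, hv⟩ : ∃ v, (b : AddMonoid.End V) v ≠ 0 := by
    by_contra h
    push Not at h
    exact hb' (AddMonoidHom.ext h)
  apply apply_ne_zero hT hR hcomm a.2 ha' hv
  have := congrArg (fun f : ↥R => (f : AddMonoid.End V) v) hab
  exact this

end Field

/-- The ring automorphism group of a finite field is cyclic. -/
theorem isCyclic_ringAut (K : Type*) [Field K] [Finite K] : IsCyclic (K ≃+* K) := by
  obtain ⟨p, hp⟩ := CharP.exists K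
  have hpp : p.Prime := by
    have hp0 : p ≠ 0 := by
      intro h
      subst h
      have : CharZero K := CharP.charP_to_charZero K
      exact not_finite K
    exact (CharP.char_is_prime_or_zero K p).resolve_right hp0
  have : Fact p.Prime := ⟨hpp⟩
  let _ := ZMod.algebra K p
  let f : (K ≃ₐ[ZMod p] K) →* (K ≃+* K) :=
    { toFun := fun e => e.toRingEquiv
      map_one' := rfl
      map_mul' := fun _ _ => rfl }
  have hf : Function.Surjective f := by
    intro e
    refine ⟨AlgEquiv.ofRingEquiv (f := e) ?_, ?_⟩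
    · intro x
      exact congrArg (fun g : ZMod p →+* K => g x)
        (RingHom.ext_zmod ((e : K →+* K).comp (algebraMap (ZMod p) K)) (algebraMap (ZMod p) K))
    · ext x; rfl
  exact isCyclic_of_surjective f hf

section Normal

variable {V : Type*} [AddCommGroup V] [Finite V] [Nontrivial V]
variable {Γ : Type*} [Group Γ] (ρ : Γ →* AddMonoid.End V)

/-- The subring generated by a subgroup. -/
def genRing (A : Subgroup Γ) : Subring (AddMonoid.End V) := Subring.closure (ρ '' (A : Set Γ))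

omit [Finite V] [Nontrivial V] in
theorem genRing_comm {A : Subgroup Γ} (hA : ∀ x ∈ A, ∀ y ∈ A, x * y = y * x) :
    ∀ a ∈ genRing ρ A, ∀ b ∈ genRing ρ A, a * b = b * a := by
  have h1 : genRing ρ A ≤ Subring.centralizer (ρ '' (A : Set Γ)) := by
    rw [genRing, Subring.closure_le]
    rintro _ ⟨x, hx, rfl⟩
    rw [SetLike.mem_coe, Subring.mem_centralizer_iff]
    rintro _ ⟨y, hy, rfl⟩
    rw [← map_mul, ← map_mul, hA x hx y hy]
  have h2 : genRing ρ A ≤ Subring.centralizer (genRing ρ A : Set (AddMonoid.End V)) := by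
    rw [genRing, Subring.closure_le]
    rintro _ ⟨x, hx, rfl⟩
    rw [SetLike.mem_coe, Subring.mem_centralizer_iff]
    intro b hb
    have := Subring.mem_centralizer_iff.mp (h1 hb) (ρ x) ⟨x, hx, rfl⟩
    exact this.symm
  intro a ha b hb
  exact (Subring.mem_centralizer_iff.mp (h2 ha) b hb).symm

omit [Finite V] [Nontrivial V] in
theorem genRing_conj {A : Subgroup Γ} [hA : A.Normal] (g : Γ) :
    ∀ a ∈ genRing ρ A, ρ g * a * ρ g⁻¹ ∈ genRing ρ A := by
  intro a ha
  induction ha using Subring.closure_induction with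
  | mem x hx =>
    obtain ⟨y, hy, rfl⟩ := hx
    apply Subring.subset_closure
    refine ⟨g * y * g⁻¹, hA.conj_mem y hy g, ?_⟩
    rw [map_mul, map_mul]
  | zero => simp only [mul_zero, zero_mul]; exact (genRing ρ A).zero_mem
  | one => rw [mul_one, rho_mul_inv]; exact (genRing ρ A).one_mem
  | add x y _ _ hx hy => rw [mul_add, add_mul]; exact (genRing ρ A).add_mem hx hy
  | neg x _ hx => rw [mul_neg, neg_mul]; exact (genRing ρ A).neg_mem hx
  | mul x y _ _ hx hy =>
    have : ρ g * (x * y) * ρ g⁻¹ = (ρ g * x * ρ g⁻¹) * (ρ g * y * ρ g⁻¹) := by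
      calc ρ g * (x * y) * ρ g⁻¹ = ρ g * x * 1 * y * ρ g⁻¹ := by simp only [mul_assoc, one_mul]
        _ = ρ g * x * (ρ g⁻¹ * ρ g) * y * ρ g⁻¹ := by rw [rho_inv_mul]
        _ = _ := by simp only [mul_assoc]
    rw [this]
    exact (genRing ρ A).mul_mem hx hy

/-- Conjugation action of `Γ` on the subring generated by a normal subgroup. -/
def conjAut (A : Subgroup Γ) [A.Normal] : Γ →* (↥(genRing ρ A) ≃+* ↥(genRing ρ A)) where
  toFun g :=
    { toFun := fun a => ⟨ρ g * a * ρ g⁻¹, genRing_conj ρ g a a.2⟩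
      invFun := fun a => ⟨ρ g⁻¹ * a * ρ g, by
        have := genRing_conj ρ g⁻¹ a a.2
        rwa [inv_inv] at this⟩
      left_inv := fun a => by
        apply Subtype.ext
        change ρ g⁻¹ * (ρ g * a * ρ g⁻¹) * ρ g = a
        calc ρ g⁻¹ * (ρ g * (a : AddMonoid.End V) * ρ g⁻¹) * ρ g
            = (ρ g⁻¹ * ρ g) * a * (ρ g⁻¹ * ρ g) := by simp only [mul_assoc]
          _ = a := by rw [rho_inv_mul, one_mul, mul_one]
      right_inv := fun a => by
        apply Subtype.ext
        change ρ g * (ρ g⁻¹ * a * ρ g) * ρ g⁻¹ = a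
        calc ρ g * (ρ g⁻¹ * (a : AddMonoid.End V) * ρ g) * ρ g⁻¹
            = (ρ g * ρ g⁻¹) * a * (ρ g * ρ g⁻¹) := by simp only [mul_assoc]
          _ = a := by rw [rho_mul_inv, one_mul, mul_one]
      map_mul' := fun a b => by
        apply Subtype.ext
        change ρ g * (a * b) * ρ g⁻¹ = (ρ g * a * ρ g⁻¹) * (ρ g * b * ρ g⁻¹)
        calc ρ g * ((a : AddMonoid.End V) * b) * ρ g⁻¹ = ρ g * a * 1 * b * ρ g⁻¹ := by
              simp only [mul_assoc, one_mul]
          _ = ρ g * a * (ρ g⁻¹ * ρ g) * b * ρ g⁻¹ := by rw [rho_inv_mul]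
          _ = _ := by simp only [mul_assoc]
      map_add' := fun a b => by
        apply Subtype.ext
        change ρ g * (a + b) * ρ g⁻¹ = ρ g * a * ρ g⁻¹ + ρ g * b * ρ g⁻¹
        rw [mul_add, add_mul] }
  map_one' := by
    apply RingEquiv.ext
    intro a
    apply Subtype.ext
    change ρ 1 * a * ρ 1⁻¹ = a
    rw [inv_one, map_one, one_mul, mul_one]
  map_mul' g h := by
    apply RingEquiv.ext
    intro a
    apply Subtype.ext
    change ρ (g * h) * a * ρ (g * h)⁻¹ = ρ g * (ρ h * a * ρ h⁻¹) * ρ g⁻¹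
    rw [mul_inv_rev, map_mul, map_mul]
    simp only [mul_assoc]

omit [Finite V] [Nontrivial V] in
theorem conjAut_ker (hρ : Function.Injective ρ) (A : Subgroup Γ) [A.Normal] :
    (conjAut ρ A).ker = Subgroup.centralizer (A : Set Γ) := by
  ext g
  rw [MonoidHom.mem_ker, Subgroup.mem_centralizer_iff]
  constructor
  · intro h x hx
    have h1 := congrArg (fun e : ↥(genRing ρ A) ≃+* ↥(genRing ρ A) =>
      ((e ⟨ρ x, Subring.subset_closure ⟨x, hx, rfl⟩⟩ : ↥(genRing ρ A)) : AddMonoid.End V)) h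
    change ρ g * ρ x * ρ g⁻¹ = ρ x at h1
    rw [← map_mul, ← map_mul] at h1
    have h2 := hρ h1
    rw [mul_inv_eq_iff_eq_mul] at h2
    exact h2.symm
  · intro h
    have hle : genRing ρ A ≤ Subring.centralizer {ρ g} := by
      rw [genRing, Subring.closure_le]
      rintro _ ⟨x, hx, rfl⟩
      rw [SetLike.mem_coe, Subring.mem_centralizer_iff]
      rintro _ rfl
      rw [← map_mul, ← map_mul, h x hx]
    apply RingEquiv.ext
    intro a
    apply Subtype.ext
    change ρ g * a * ρ g⁻¹ = a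
    have := Subring.mem_centralizer_iff.mp (hle a.2) (ρ g) rfl
    rw [this, mul_assoc, rho_mul_inv, mul_one]

end Normal

universe u

/-- An abelian normal subgroup `A` of a group acting faithfully and line-transitively is cyclic,
and its centraliser is the kernel of a homomorphism to a cyclic group. -/
theorem normal_abelian_of_lineTrans {V : Type u} [AddCommGroup V] [Finite V] [Nontrivial V]
    {Γ : Type*} [Group Γ] (ρ : Γ →* AddMonoid.End V) [Finite Γ] (hρ : Function.Injective ρ) (hT : LineTrans ρ)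
    (A : Subgroup Γ) [A.Normal] (hA : ∀ x ∈ A, ∀ y ∈ A, x * y = y * x) :
    IsCyclic ↥A ∧ ∃ (C : Type u) (_ : Group C) (_ : IsCyclic C) (θ : Γ →* C),
      θ.ker = Subgroup.centralizer (A : Set Γ) := by
  have hcomm := genRing_comm ρ hA
  have hnz : NoZeroDivisors ↥(genRing ρ A) :=
    noZeroDivisors hT (fun g => genRing_conj ρ g) hcomm
  have hnt : Nontrivial (AddMonoid.End V) := by
    obtain ⟨v, hv⟩ := exists_ne (0 : V)
    refine ⟨⟨1, 0, fun h => hv ?_⟩⟩
    exact congrArg (fun f : AddMonoid.End V => f v) h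
  have hdom : IsDomain ↥(genRing ρ A) := NoZeroDivisors.to_isDomain _
  have hfin : Finite ↥(genRing ρ A) := Subtype.finite
  let _ : CommRing ↥(genRing ρ A) :=
    { (inferInstance : Ring ↥(genRing ρ A)) with
      mul_comm := fun a b => Subtype.ext (hcomm a a.2 b b.2) }
  constructor
  · let f : ↥A →* ↥(genRing ρ A) :=
      { toFun := fun a => ⟨ρ (a : Γ), Subring.subset_closure ⟨a, a.2, rfl⟩⟩
        map_one' := Subtype.ext (map_one ρ)
        map_mul' := fun a b => Subtype.ext (map_mul ρ (a : Γ) (b : Γ)) }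
    apply isCyclic_of_injective_ringHom f
    intro a b hab
    have := congrArg Subtype.val hab
    exact Subtype.ext (hρ this)
  · have hF : IsField ↥(genRing ρ A) := Finite.isField_of_domain _
    let _ := hF.toField
    exact ⟨_, _, isCyclic_ringAut ↥(genRing ρ A), conjAut ρ A, conjAut_ker ρ hρ A⟩

end Cfsg.Agent.H477
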