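import Mathlib
import Cfsg.Agent.H477.Basic

/-!
Existence of normal elementary abelian subgroups.
-/

set_option autoImplicit false

namespace Cfsg.Agent.H477

open Subgroup
open scoped commutatorElement

/-- The elements of order dividing `p` in an abelian subgroup. -/
def omegaSub {G : Type*} [Group G] (D : Subgroup G) (hD : IsMulCommutative ↥D) (p : ℕ) :
    Subgroup G where
  carrier := {x | x ∈ D ∧ x ^ p = 1}
  one_mem' := ⟨D.one_mem, one_pow p⟩
  mul_mem' := by
    rintro a b ⟨ha, hap⟩ ⟨hb, hbp⟩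
    refine ⟨D.mul_mem ha hb, ?_⟩
    have hc : Commute a b := isMulCommutative_iff.mp hD a ha b hb
    rw [hc.mul_pow, hap, hbp, one_mul]
  inv_mem' := by
    rintro a ⟨ha, hap⟩
    exact ⟨D.inv_mem ha, by rw [inv_pow, hap, inv_one]⟩

theorem mem_omegaSub {G : Type*} [Group G] {D : Subgroup G} {hD : IsMulCommutative ↥D} {p : ℕ}
    {x : G} : x ∈ omegaSub D hD p ↔ x ∈ D ∧ x ^ p = 1 := Iff.rfl

/-- A nontrivial solvable normal subgroup contains a nontrivial elementary abelian normal subgroup. -/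
theorem exists_elem_normal {G : Type*} [Group G] [Finite G] (N : Subgroup G) [N.Normal]
    [hs : Group.IsSolvable ↥N] (hN : N ≠ ⊥) :
    ∃ (M : Subgroup G) (p : ℕ), M.Normal ∧ M ≤ N ∧ M ≠ ⊥ ∧ p.Prime ∧ IsMulCommutative ↥M ∧
      (∀ x ∈ M, x ^ p = 1) := by
  classical
  have hex : ∃ n, derivedSeries ↥N n = ⊥ := hs.solvable
  have hf := Nat.find_spec hex
  have hf0 : Nat.find hex ≠ 0 := by
    intro h
    rw [h, derivedSeries_zero] at hf
    apply hN
    rw [← Subgroup.range_subtype N, MonoidHom.range_eq_map, hf, Subgroup.map_bot]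
  obtain ⟨k, hk⟩ := Nat.exists_eq_succ_of_ne_zero hf0
  have hk1 : derivedSeries ↥N k ≠ ⊥ := Nat.find_min hex (by rw [hk]; exact Nat.lt_succ_self k)
  rw [hk, derivedSeries_succ] at hf
  set D := (derivedSeries ↥N k).map N.subtype with hDdef
  have hDn : D.Normal := inferInstance
  have hDN : D ≤ N := Subgroup.map_subtype_le _
  have hDne : D ≠ ⊥ := by
    intro h
    exact hk1 ((Subgroup.map_eq_bot_iff_of_injective _ N.subtype_injective).mp h)
  have hDc : IsMulCommutative ↥D := by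
    rw [isMulCommutative_iff]
    rintro _ ⟨x, hx, rfl⟩ _ ⟨y, hy, rfl⟩
    have h1 : ⁅x, y⁆ ∈ ⁅derivedSeries ↥N k, derivedSeries ↥N k⁆ :=
      Subgroup.commutator_mem_commutator hx hy
    rw [hf, Subgroup.mem_bot, commutatorElement_eq_one_iff_mul_comm] at h1
    exact congrArg Subtype.val h1
  have hcard : Nat.card ↥D ≠ 1 := fun h => hDne (Subgroup.card_eq_one.mp h)
  obtain ⟨p, hp, hpD⟩ := Nat.exists_prime_and_dvd hcard
  have : Fact p.Prime := ⟨hp⟩
  obtain ⟨d, hd⟩ := exists_prime_orderOf_dvd_card' (G := ↥D) p hpD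
  refine ⟨omegaSub D hDc p, p, ?_, fun x hx => hDN hx.1, ?_, hp, ?_, fun x hx => hx.2⟩
  · refine ⟨fun x hx g => ⟨hDn.conj_mem x hx.1 g, ?_⟩⟩
    rw [conj_pow, hx.2, mul_one, mul_inv_cancel]
  · intro h
    have h1 : (d : G) ∈ omegaSub D hDc p := by
      refine ⟨d.2, ?_⟩
      have : d ^ p = 1 := by rw [← hd]; exact pow_orderOf_eq_one d
      exact congrArg Subtype.val this
    rw [h, Subgroup.mem_bot] at h1
    have h2 : d = 1 := Subtype.ext h1
    rw [h2, orderOf_one] at hd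
    exact hp.one_lt.ne hd
  · exact isMulCommutative_mono (fun x hx => hx.1) hDc

theorem card_eq_pow_of_exponent {G : Type*} [Group G] [Finite G] {M : Subgroup G} {p : ℕ}
    (hp : p.Prime) (hM : ∀ x ∈ M, x ^ p = 1) : ∃ t, Nat.card ↥M = p ^ t := by
  have : Fact p.Prime := ⟨hp⟩
  refine IsPGroup.iff_card.mp ?_
  intro x
  refine ⟨1, ?_⟩
  rw [pow_one]
  exact Subtype.ext (hM x x.2)

end Cfsg.Agent.H477
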