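import Mathlib
import Cfsg.Agent.H477.SylowStruct
import Cfsg.Agent.H477.FieldLemma

/-!
A solvable B-group acting faithfully and line-transitively has cyclic Sylow subgroups, or a normal
quaternion Sylow 2-subgroup.
-/

set_option autoImplicit false

namespace Cfsg.Agent.H477

open Subgroup

section Q8
variable {Γ : Type*} [Group Γ] [Finite Γ]

omit [Finite Γ] in
theorem isMulCommutative_of_subtype {S : Subgroup Γ} (h : ∀ x y : ↥S, x * y = y * x) :
    IsMulCommutative ↥S := ⟨⟨h⟩⟩

/-- A noncommutative subgroup of a quaternion group of order 8 is the whole group. -/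
theorem IsQ8.eq_of_noncomm {R S : Subgroup Γ} (hR : IsQ8 ↥R) (hSR : S ≤ R)
    (hS : ¬ IsMulCommutative ↥S) : S = R := by
  apply Subgroup.eq_of_le_of_card_ge hSR
  rw [hR.card]
  have h1 := Subgroup.card_dvd_of_le hSR
  rw [hR.card] at h1
  have h2 : Nat.card ↥S ∈ Nat.divisors 8 := Nat.mem_divisors.mpr ⟨h1, by norm_num⟩
  have h3 : Nat.divisors 8 = {1, 2, 4, 8} := by decide
  rw [h3] at h2
  simp only [Finset.mem_insert, Finset.mem_singleton] at h2
  rcases h2 with h | h | h | h
  · exfalso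
    apply hS
    rw [Subgroup.card_eq_one] at h
    rw [h]
    infer_instance
  · exfalso
    have : Fact (Nat.Prime 2) := ⟨Nat.prime_two⟩
    exact hS (isMulCommutative_of_card_prime h)
  · exfalso
    have : Fact (Nat.Prime 2) := ⟨Nat.prime_two⟩
    have h4 : Nat.card ↥S = 2 ^ 2 := by rw [h]; norm_num
    exact hS ⟨⟨(IsPGroup.isMulCommutative_of_card_eq_prime_sq h4).is_comm.comm⟩⟩
  · rw [h]

omit [Finite Γ] in
/-- A quaternion group of order 8 has an element of order 4. -/
theorem IsQ8.exists_four {S : Subgroup Γ} (hS : IsQ8 ↥S) : ∃ u ∈ S, orderOf u = 4 := by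
  by_contra hcon
  push Not at hcon
  apply hS.noncomm
  intro x y
  apply hS.sq
  have h4 := hS.four x
  have h5 : orderOf x ∣ 4 := orderOf_dvd_of_pow_eq_one h4
  have h6 : orderOf x ≠ 4 := by
    have := hcon x x.2
    rwa [Subgroup.orderOf_coe] at this
  have h7 : orderOf x ∣ 2 := by
    have h8 : orderOf x ∈ Nat.divisors 4 := Nat.mem_divisors.mpr ⟨h5, by norm_num⟩
    have h9 : Nat.divisors 4 = {1, 2, 4} := by decide
    rw [h9] at h8
    simp only [Finset.mem_insert, Finset.mem_singleton] at h8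
    rcases h8 with h | h | h
    · rw [h]; norm_num
    · rw [h]
    · exact absurd h h6
  exact orderOf_dvd_iff_pow_eq_one.mp h7

omit [Finite Γ] in
/-- An element of odd order normalising a quaternion group of order 8 and centralising an element
of order 4 centralises the group. -/
theorem IsQ8.centralizes {S : Subgroup Γ} [hSn : S.Normal] (hS : IsQ8 ↥S) {u w : Γ} (hu : u ∈ S)
    (hu4 : orderOf u = 4) (hw : w * u = u * w) {r : ℕ} (hr : Nat.Coprime r 4) (hwr : w ^ r = 1) :
    ∀ s ∈ S, w * s = s * w := by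
  have hfinS : Finite ↥S := Nat.finite_of_card_ne_zero (by rw [hS.card]; norm_num)
  let U : Subgroup ↥S := Subgroup.zpowers ⟨u, hu⟩
  have hUcard : Nat.card ↥U = 4 := by
    rw [Nat.card_zpowers, Subgroup.orderOf_mk, hu4]
  have hUi : U.index = 2 := by
    have h1 := U.card_mul_index
    rw [hUcard, hS.card] at h1
    omega
  have hUw : ∀ x : ↥S, x ∈ U → w * x = x * w := by
    intro x hx
    obtain ⟨k, hk⟩ := Subgroup.mem_zpowers_iff.mp hx
    rw [← hk]
    have : Commute w u := hw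
    have h2 := this.zpow_right k
    rw [Subgroup.coe_zpow]
    exact h2.eq
  intro s hs
  have hφ : w * s * w⁻¹ ∈ S := hSn.conj_mem s hs w
  set c := s⁻¹ * (w * s * w⁻¹) with hc
  have hcS : c ∈ S := S.mul_mem (S.inv_mem hs) hφ
  have hcU : (⟨c, hcS⟩ : ↥S) ∈ U := by
    have h1 : (⟨c, hcS⟩ : ↥S) = (⟨s, hs⟩ : ↥S)⁻¹ * ⟨w * s * w⁻¹, hφ⟩ := rfl
    rw [h1, Subgroup.mul_mem_iff_of_index_two hUi, inv_mem_iff]
    constructor
    · intro h2
      have h3 := hUw _ h2
      have h4 : w * s * w⁻¹ = s := by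
        rw [mul_inv_eq_iff_eq_mul]; exact h3
      simp only [h4]
      exact h2
    · intro h2
      have h3 := hUw _ h2
      simp only at h3
      -- w * (w s w⁻¹) = (w s w⁻¹) * w = w s
      have h4 : w * s * w⁻¹ * w = w * s := by group
      rw [h4] at h3
      have h5 : w * s * w⁻¹ = s := mul_left_cancel h3
      simp only [h5] at h2
      exact h2
  have hcw : w * c = c * w := hUw _ hcU
  have hc4 : c ^ 4 = 1 := by
    have := hS.four ⟨c, hcS⟩
    exact congrArg Subtype.val this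
  have hpow : ∀ n : ℕ, w ^ n * s * (w ^ n)⁻¹ = s * c ^ n := by
    intro n
    induction n with
    | zero => simp
    | succ n ih =>
      have hcn : w * c ^ n * w⁻¹ = c ^ n := by
        rw [mul_inv_eq_iff_eq_mul]
        exact ((show Commute w c from hcw).pow_right n).eq
      calc w ^ (n + 1) * s * (w ^ (n + 1))⁻¹ = w * (w ^ n * s * (w ^ n)⁻¹) * w⁻¹ := by
            rw [pow_succ' w n, mul_inv_rev]; simp only [mul_assoc]
        _ = w * (s * c ^ n) * w⁻¹ := by rw [ih]
        _ = (w * s * w⁻¹) * (w * c ^ n * w⁻¹) := by group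
        _ = (s * c) * c ^ n := by rw [hcn, hc]; group
        _ = s * c ^ (n + 1) := by rw [pow_succ' c n, mul_assoc]
  have h1 := hpow r
  rw [hwr, inv_one, one_mul, mul_one] at h1
  have hcr : c ^ r = 1 := by
    have := mul_left_cancel ((mul_one s).trans h1)
    exact this.symm
  have hc1 := eq_one_of_pow_coprime hr hcr hc4
  rw [hc1] at hc
  have : w * s * w⁻¹ = s := by
    have h2 := congrArg (fun x => s * x) hc
    simp only [mul_one, mul_inv_cancel_left] at h2
    exact h2.symm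
  rwa [mul_inv_eq_iff_eq_mul] at this

end Q8

section Lemmas
variable {Γ : Type*} [Group Γ] [Finite Γ]

/-- Lemma X: above a maximal normal abelian subgroup there is a normal nonabelian `q`-subgroup. -/
theorem exists_normal_noncomm [Group.IsSolvable Γ] {A E : Subgroup Γ} [hAn : A.Normal] [hEn : E.Normal]
    (hAc : IsMulCommutative ↥A)
    (hmax : ∀ B : Subgroup Γ, B.Normal → IsMulCommutative ↥B → A ≤ B → B = A)
    (hAE : A < E) (hE : E ≤ centralizer (A : Set Γ)) :
    ∃ (S : Subgroup Γ) (q : ℕ), S ≤ E ∧ S.Normal ∧ q.Prime ∧ IsPGroup q ↥S ∧ ¬ IsMulCommutative ↥S := by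
  set π := QuotientGroup.mk' A with hπ
  have hπs : Function.Surjective π := QuotientGroup.mk'_surjective A
  have hker : π.ker = A := QuotientGroup.ker_mk' A
  have hEmn : (E.map π).Normal := hEn.map π hπs
  have hEne : E.map π ≠ ⊥ := by
    intro h
    rw [Subgroup.map_eq_bot_iff, hker] at h
    exact hAE.not_ge h
  obtain ⟨Bb, q, hBn, hBE, hBne, hq, hBc, hBq⟩ := exists_elem_normal (E.map π) hEne
  have : Fact q.Prime := ⟨hq⟩
  set B := Bb.comap π with hB
  have hBnorm : B.Normal := inferInstance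
  have hAB : A ≤ B := by
    have := MonoidHom.ker_le_comap π Bb
    rwa [hker] at this
  have hBE' : B ≤ E := by
    have h1 := Subgroup.comap_mono (f := π) hBE
    rwa [Subgroup.comap_map_eq, hker, sup_of_le_left hAE.le] at h1
  have hABlt : A ≠ B := by
    intro h
    apply hBne
    rw [← Subgroup.map_comap_eq_self_of_surjective hπs Bb, ← hB, ← h]
    exact (Subgroup.map_eq_bot_iff _).mpr hker.ge
  -- every element of `B` has a `q`-th power in `A`
  have hBA : ∀ b ∈ B, b ^ q ∈ A := by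
    intro b hb
    have h1 := hBq _ hb
    rw [← map_pow, ← MonoidHom.mem_ker, hker] at h1
    exact h1
  have hBcent : ∀ b ∈ B, ∀ a ∈ A, b * a = a * b := by
    intro b hb a ha
    exact (mem_centralizer_iff.mp (hE (hBE' hb)) a ha).symm
  obtain ⟨P⟩ : Nonempty (Sylow q ↥B) := inferInstance
  set S := (P : Subgroup ↥B).map B.subtype with hS
  have hSB : S ≤ B := Subgroup.map_subtype_le _
  -- `B = A ⊔ S`
  have hsup : A ⊔ S = B := by
    apply le_antisymm (sup_le hAB hSB)
    have h1 : (A.subgroupOf B ⊔ (P : Subgroup ↥B)).index = 1 := by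
      have h2 : (A.subgroupOf B ⊔ (P : Subgroup ↥B)).index ∣ (A.subgroupOf B).index :=
        Subgroup.index_dvd_of_le le_sup_left
      have h3 : (A.subgroupOf B ⊔ (P : Subgroup ↥B)).index ∣ (P : Subgroup ↥B).index :=
        Subgroup.index_dvd_of_le le_sup_right
      have h4 : IsPGroup q (↥B ⧸ A.subgroupOf B) := by
        intro x
        obtain ⟨b, rfl⟩ := QuotientGroup.mk_surjective x
        refine ⟨1, ?_⟩
        rw [pow_one, ← QuotientGroup.mk_pow, QuotientGroup.eq_one_iff]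
        exact hBA b b.2
      obtain ⟨k, hk⟩ := IsPGroup.iff_card.mp h4
      rw [← Subgroup.index_eq_card] at hk
      rw [hk] at h2
      have h5 : Nat.Coprime (q ^ k) (P : Subgroup ↥B).index :=
        Nat.Coprime.pow_left k (hq.coprime_iff_not_dvd.mpr P.not_dvd_index)
      exact Nat.eq_one_of_dvd_coprimes h5 h2 h3
    rw [Subgroup.index_eq_one] at h1
    have h6 := congrArg (Subgroup.map B.subtype) h1
    rw [Subgroup.map_sup, Subgroup.map_subgroupOf_eq_of_le hAB, ← MonoidHom.range_eq_map,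
      Subgroup.range_subtype] at h6
    exact h6.ge
  have hSnc : ¬ IsMulCommutative ↥S := by
    intro h
    apply hABlt
    refine (hmax B hBnorm ?_ hAB).symm
    rw [← hsup, sup_comm]
    exact isMulCommutative_sup h hAc (fun x hx y hy => (hBcent y (hSB hy) x hx).symm)
  refine ⟨S, q, hSB.trans hBE', ?_, hq, P.isPGroup'.map _, hSnc⟩
  -- normality
  have hPn : (P : Subgroup ↥B).Normal := by
    rw [← Subgroup.normalizer_eq_top_iff]
    have h1 : A.subgroupOf B ⊔ (P : Subgroup ↥B) = ⊤ := by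
      apply Subgroup.map_injective B.subtype_injective
      rw [Subgroup.map_sup, Subgroup.map_subgroupOf_eq_of_le hAB, ← MonoidHom.range_eq_map,
        Subgroup.range_subtype]
      exact hsup
    rw [eq_top_iff, ← h1]
    apply sup_le _ Subgroup.le_normalizer
    intro a ha
    rw [Subgroup.mem_normalizer_iff]
    intro x
    have h2 : a * x * a⁻¹ = x := by
      rw [mul_inv_eq_iff_eq_mul]
      exact Subtype.ext (hBcent x x.2 a ha).symm
    rw [h2]
  have hPc : (P : Subgroup ↥B).Characteristic := P.characteristic_of_normal hPn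
  exact inferInstance

/-- In a solvable B-group, a nonabelian normal `q`-subgroup is the quaternion Sylow 2-subgroup. -/
theorem IsB.eq_sylow_of_noncomm [Group.IsSolvable Γ] (hB : IsB Γ) {S : Subgroup Γ} [S.Normal] {q : ℕ}
    (hq : q.Prime) (hS : IsPGroup q ↥S) (hSnc : ¬ IsMulCommutative ↥S) :
    q = 2 ∧ IsQ8 ↥S ∧ ∀ R : Sylow 2 Γ, (R : Subgroup Γ) = S := by
  have : Fact q.Prime := ⟨hq⟩
  have key : ∀ R : Sylow q Γ, q = 2 ∧ IsQ8 ↥(R : Subgroup Γ) ∧ S = R := by
    intro R
    have hSR : S ≤ R := hS.le_sylow_of_normal R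
    rcases hB.sylow_cases q R with h | ⟨h, -⟩ | ⟨h1, h2⟩
    · exact absurd (isMulCommutative_mono hSR inferInstance) hSnc
    · exact absurd (isMulCommutative_mono hSR ⟨⟨h⟩⟩) hSnc
    · exact ⟨h1, h2, h2.eq_of_noncomm hSR hSnc⟩
  obtain ⟨R₀⟩ : Nonempty (Sylow q Γ) := inferInstance
  obtain ⟨h1, h2, h3⟩ := key R₀
  subst h1
  refine ⟨rfl, ?_, fun R => (key R).2.2.symm⟩
  rw [h3]
  exact h2

omit [Finite Γ] in
/-- A normal subgroup meeting an elementary abelian Sylow subgroup nontrivially contains it. -/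
theorem IsB.le_of_inf_ne_bot (hB : IsB Γ) {r : ℕ} [hr : Fact r.Prime] {R N : Subgroup Γ} [N.Normal]
    (hRr : ∀ x : ↥R, x ^ r = 1) (h : R ⊓ N ≠ ⊥) : R ≤ N := by
  obtain ⟨⟨x, hxR, hxN⟩, hx1⟩ := Subgroup.ne_bot_iff_exists_ne_one.mp h
  have hx1 : x ≠ 1 := fun h => hx1 (Subtype.ext h)
  have hxo : orderOf x = r := orderOf_eq_prime (congrArg Subtype.val (hRr ⟨x, hxR⟩)) hx1
  intro y hy
  by_cases hy1 : y = 1
  · rw [hy1]; exact N.one_mem
  · have hyo : orderOf y = r := orderOf_eq_prime (congrArg Subtype.val (hRr ⟨y, hy⟩)) hy1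
    exact hB.mem_of_orderOf hxN (by rw [hxo, hyo])

omit [Finite Γ] in
/-- A normal subgroup not containing the quaternion subgroup `R` meets it in a central subgroup. -/
theorem IsB.sq_eq_one_of_mem (hB : IsB Γ) {R N : Subgroup Γ} [N.Normal] (hR : IsQ8 ↥R)
    (h : ¬ R ≤ N) : ∀ x ∈ R, x ∈ N → x ^ 2 = 1 := by
  intro x hxR hxN
  by_contra hx2
  apply h
  have hord : ∀ y ∈ R, y ^ 2 ≠ 1 → orderOf y = 4 := by
    intro y hy hy2
    have h4 : orderOf y ∣ 4 := orderOf_dvd_of_pow_eq_one (congrArg Subtype.val (hR.four ⟨y, hy⟩))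
    have h8 : orderOf y ∈ Nat.divisors 4 := Nat.mem_divisors.mpr ⟨h4, by norm_num⟩
    have h9 : Nat.divisors 4 = {1, 2, 4} := by decide
    rw [h9] at h8
    simp only [Finset.mem_insert, Finset.mem_singleton] at h8
    rcases h8 with h | h | h
    · exact absurd (orderOf_dvd_iff_pow_eq_one.mp (by rw [h]; norm_num)) hy2
    · exact absurd (orderOf_dvd_iff_pow_eq_one.mp (by rw [h])) hy2
    · exact h
  have hmem : ∀ y ∈ R, y ^ 2 ≠ 1 → y ∈ N := fun y hy hy2 =>
    hB.mem_of_orderOf hxN (by rw [hord x hxR hx2, hord y hy hy2])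
  intro y hy
  by_cases hy2 : y ^ 2 = 1
  · have hc : y * x = x * y :=
      congrArg Subtype.val (hR.sq ⟨y, hy⟩ ⟨x, hxR⟩ (Subtype.ext hy2))
    have h1 : (y * x) ^ 2 ≠ 1 := by
      rw [(show Commute y x from hc).mul_pow, hy2, one_mul]
      exact hx2
    have h2 : y * x ∈ N := hmem _ (R.mul_mem hy hxR) h1
    exact (N.mul_mem_cancel_right hxN).mp h2
  · exact hmem y hy hy2

/-- The cyclic-by-cyclic case. -/
theorem IsB.isCyclic_of_ker (hB : IsB Γ) {A : Subgroup Γ} [A.Normal] (hA : IsCyclic ↥A)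
    {C : Type*} [Group C] [IsCyclic C] (θ : Γ →* C) (hθ : θ.ker = A) {r : ℕ} [hr : Fact r.Prime]
    {R : Subgroup Γ} (hR : SylowCases r ↥R) : IsCyclic ↥R := by
  rcases hR with h | ⟨hc, hr1⟩ | ⟨hr2, hQ⟩
  · exact h
  · by_cases h : R ⊓ A = ⊥
    · apply isCyclic_of_injective (θ.comp R.subtype)
      rw [injective_iff_map_eq_one]
      intro x hx
      have h1 : (x : Γ) ∈ A := by rw [← hθ, MonoidHom.mem_ker]; exact hx
      have h2 : (x : Γ) ∈ R ⊓ A := ⟨x.2, h1⟩
      rw [h, Subgroup.mem_bot] at h2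
      exact Subtype.ext h2
    · have h1 := hB.le_of_inf_ne_bot hr1 h
      exact isCyclic_of_injective (Subgroup.inclusion h1) (Subgroup.inclusion_injective h1)
  · exfalso
    have hnle : ¬ R ≤ A := by
      intro h
      exact hQ.noncomm (fun x y => Subtype.ext
        (isMulCommutative_iff.mp (isMulCommutative_mono h inferInstance) x x.2 y y.2))
    have hsq := hB.sq_eq_one_of_mem hQ hnle
    apply hQ.noncomm
    have h1 : IsMulCommutative ↥R := by
      apply MonoidHom.isMulCommutative_of_isCyclic_of_ker_le_center (θ.comp R.subtype)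
      intro x hx
      rw [Subgroup.mem_center_iff]
      intro y
      have h1 : (x : Γ) ∈ A := by rw [← hθ, MonoidHom.mem_ker]; exact hx
      exact (hQ.sq x y (Subtype.ext (hsq x x.2 h1))).symm
    exact h1.is_comm.comm

end Lemmas

universe u

/-- **Sylow subgroups of a solvable B-group acting faithfully and line-transitively.** -/
theorem IsB.sylow_of_lineTrans {V : Type u} [AddCommGroup V] [Finite V] [Nontrivial V]
    {Γ : Type*} [Group Γ] [Finite Γ] [Group.IsSolvable Γ] (ρ : Γ →* AddMonoid.End V)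
    (hρ : Function.Injective ρ) (hT : LineTrans ρ) (hB : IsB Γ) (r : ℕ) [hr : Fact r.Prime]
    (R : Sylow r Γ) :
    IsCyclic ↥(R : Subgroup Γ) ∨ (r = 2 ∧ IsQ8 ↥(R : Subgroup Γ) ∧ (R : Subgroup Γ).Normal) := by
  classical
  obtain ⟨A, hAmax⟩ := Set.Finite.exists_maximal
    (Set.toFinite {A : Subgroup Γ | A.Normal ∧ IsMulCommutative ↥A})
    ⟨⊥, ⟨inferInstance, inferInstance⟩⟩
  obtain ⟨hAn, hAc⟩ := hAmax.1
  have hmax : ∀ B : Subgroup Γ, B.Normal → IsMulCommutative ↥B → A ≤ B → B = A := by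
    intro B hBn hBc hAB
    exact le_antisymm (hAmax.2 ⟨hBn, hBc⟩ hAB) hAB
  obtain ⟨hAcyc, C, hCg, hCc, θ, hθ⟩ :=
    normal_abelian_of_lineTrans ρ hρ hT A (isMulCommutative_iff.mp hAc)
  have hAC : A ≤ centralizer (A : Set Γ) := by
    intro x hx
    rw [mem_centralizer_iff]
    intro y hy
    exact isMulCommutative_iff.mp hAc y hy x hx
  have hcases := hB.sylow_cases r R
  by_cases hCA : centralizer (A : Set Γ) = A
  · left
    exact hB.isCyclic_of_ker hAcyc θ (hθ.trans hCA) hcases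
  have hlt : A < centralizer (A : Set Γ) := lt_of_le_of_ne hAC (Ne.symm hCA)
  obtain ⟨S, q, hSE, hSn, hq, hSp, hSnc⟩ := exists_normal_noncomm hAc hmax hlt le_rfl
  obtain ⟨hq2, hSQ, hSyl⟩ := hB.eq_sylow_of_noncomm hq hSp hSnc
  by_cases hr2 : r = 2
  · subst hr2
    right
    rw [hSyl R]
    exact ⟨rfl, hSQ, hSn⟩
  left
  rcases hcases with h | ⟨hRc, hRr⟩ | ⟨h, -⟩
  · exact h
  swap
  · exact absurd h hr2
  by_contra hRcyc
  have hRA : (R : Subgroup Γ) ⊓ A = ⊥ := by
    by_contra h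
    have h1 := hB.le_of_inf_ne_bot hRr h
    exact hRcyc (isCyclic_of_injective (Subgroup.inclusion h1) (Subgroup.inclusion_injective h1))
  have hRC : (R : Subgroup Γ) ≤ centralizer (A : Set Γ) := by
    apply hB.le_of_inf_ne_bot hRr
    intro h
    apply hRcyc
    apply isCyclic_of_injective (θ.comp (R : Subgroup Γ).subtype)
    rw [injective_iff_map_eq_one]
    intro x hx
    have h1 : (x : Γ) ∈ centralizer (A : Set Γ) := by
      rw [← hθ, MonoidHom.mem_ker]; exact hx
    have h2 : (x : Γ) ∈ (R : Subgroup Γ) ⊓ centralizer (A : Set Γ) := ⟨x.2, h1⟩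
    rw [h, Subgroup.mem_bot] at h2
    exact Subtype.ext h2
  -- the centraliser of `A` and `S` is `A`
  have hE : centralizer (A : Set Γ) ⊓ centralizer (S : Set Γ) = A := by
    by_contra hne
    have hAE : A < centralizer (A : Set Γ) ⊓ centralizer (S : Set Γ) := by
      apply lt_of_le_of_ne _ (Ne.symm hne)
      apply le_inf hAC
      rw [le_centralizer_iff]
      exact hSE
    obtain ⟨S', q', hSE', hSn', hq', hSp', hSnc'⟩ := exists_normal_noncomm hAc hmax hAE inf_le_left
    obtain ⟨hq2', hSQ', hSyl'⟩ := hB.eq_sylow_of_noncomm hq' hSp' hSnc'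
    have : Fact (Nat.Prime 2) := ⟨Nat.prime_two⟩
    obtain ⟨R₂⟩ : Nonempty (Sylow 2 Γ) := inferInstance
    have hSS : S' = S := (hSyl' R₂).symm.trans (hSyl R₂)
    rw [hSS] at hSE'
    apply hSnc
    rw [isMulCommutative_iff]
    intro x hx y hy
    exact (mem_centralizer_iff.mp (hSE' hx).2 y hy).symm
  obtain ⟨u, huS, hu4⟩ := hSQ.exists_four
  have hrodd : Nat.Coprime r 4 := by
    have h1 : Nat.Coprime r 2 := (Nat.coprime_primes hr.out Nat.prime_two).mpr hr2
    exact Nat.Coprime.pow_right 2 h1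
  -- `R` embeds into `S`
  let f : ↥(R : Subgroup Γ) → ↥S := fun x => ⟨x * u * (x : Γ)⁻¹, hSn.conj_mem u huS x⟩
  have hf : Function.Injective f := by
    intro x y hxy
    have h1 : (x : Γ) * u * (x : Γ)⁻¹ = y * u * (y : Γ)⁻¹ := congrArg Subtype.val hxy
    set w : Γ := (y : Γ)⁻¹ * x with hw
    have hwR : w ∈ (R : Subgroup Γ) := (R : Subgroup Γ).mul_mem ((R : Subgroup Γ).inv_mem y.2) x.2
    have hwu : w * u = u * w := by
      have h2 : (y : Γ)⁻¹ * (x * u * (x : Γ)⁻¹) * x = (y : Γ)⁻¹ * (y * u * (y : Γ)⁻¹) * x := by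
        rw [h1]
      have h3 : (y : Γ)⁻¹ * (x * u * (x : Γ)⁻¹) * x = w * u := by rw [hw]; group
      have h4 : (y : Γ)⁻¹ * (y * u * (y : Γ)⁻¹) * x = u * w := by rw [hw]; group
      rw [← h3, h2, h4]
    have hwr : w ^ r = 1 := congrArg Subtype.val (hRr ⟨w, hwR⟩)
    have h5 := hSQ.centralizes huS hu4 hwu hrodd hwr
    have h6 : w ∈ centralizer (A : Set Γ) ⊓ centralizer (S : Set Γ) := by
      refine ⟨hRC hwR, ?_⟩
      change w ∈ centralizer (S : Set Γ)
      rw [mem_centralizer_iff]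
      intro s hs
      exact (h5 s hs).symm
    rw [hE] at h6
    have h7 : w ∈ (R : Subgroup Γ) ⊓ A := ⟨hwR, h6⟩
    rw [hRA, Subgroup.mem_bot, hw, inv_mul_eq_one] at h7
    exact Subtype.ext h7.symm
  have hfinS : Finite ↥S := inferInstance
  have hle : Nat.card ↥(R : Subgroup Γ) ≤ 8 := by
    rw [← hSQ.card]
    exact Nat.card_le_card_of_injective f hf
  obtain ⟨k, hk⟩ := IsPGroup.iff_card.mp R.isPGroup'
  have hk2 : 2 ≤ k := by
    by_contra hlt2
    apply hRcyc
    have hk01 : k = 0 ∨ k = 1 := by omega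
    rcases hk01 with rfl | rfl
    · rw [pow_zero, Subgroup.card_eq_one] at hk
      rw [hk]
      exact isCyclic_of_subsingleton
    · rw [pow_one] at hk
      exact isCyclic_of_prime_card hk
  have hr3 : 3 ≤ r := by
    have := hr.out.two_le
    omega
  have h9 : 3 ^ 2 ≤ r ^ k := (Nat.pow_le_pow_left hr3 2).trans (Nat.pow_le_pow_right (by omega) hk2)
  rw [hk] at hle
  omega

end Cfsg.Agent.H477
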