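import Mathlib
import Cfsg.Agent.H477.QuotAll
import Cfsg.Agent.S0001

/-!
Lifting conjugacy from quotients; groups whose relevant Sylow subgroups are cyclic.
-/

set_option autoImplicit false

namespace Cfsg.Agent.H477

open Subgroup

section
variable {G : Type*} [Group G]

/-- Conjugacy inside a subgroup. -/
theorem conj_mem_of_subgroupOf {X Y T : Subgroup G} (hX : X ≤ T) (hY : Y ≤ T)
    (h : ∃ t : ↥T, Y.subgroupOf T = (X.subgroupOf T).map (MulAut.conj t).toMonoidHom) :
    ∃ t ∈ T, Y = X.map (MulAut.conj t).toMonoidHom := by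
  obtain ⟨t, ht⟩ := h
  refine ⟨t, t.2, ?_⟩
  have h1 := congrArg (Subgroup.map T.subtype) ht
  rw [Subgroup.map_subgroupOf_eq_of_le hY, Subgroup.map_map] at h1
  have h3 : T.subtype.comp (MulAut.conj t).toMonoidHom =
      (MulAut.conj (t : G)).toMonoidHom.comp T.subtype := by
    ext x; simp
  rw [h3, ← Subgroup.map_map, Subgroup.map_subgroupOf_eq_of_le hX] at h1
  exact h1

theorem card_map_conj (g : G) (X : Subgroup G) :
    Nat.card ↥(X.map (MulAut.conj g).toMonoidHom) = Nat.card ↥X :=
  Subgroup.card_map_of_injective (MulAut.conj g).injective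

variable [Finite G]

/-- Two subgroups with the same product with a normal solvable Hall subgroup of it are conjugate. -/
theorem conj_of_sup_eq {M X Y : Subgroup G} [M.Normal] (hMs : Group.IsSolvable ↥M)
    (hcard : Nat.card ↥X = Nat.card ↥Y) (hcop : (Nat.card ↥M).Coprime (Nat.card ↥X))
    (h : M ⊔ X = M ⊔ Y) : ∃ t ∈ M ⊔ X, Y = X.map (MulAut.conj t).toMonoidHom := by
  set L := M ⊔ X with hL
  have hML : M ≤ L := le_sup_left
  have hXL : X ≤ L := le_sup_right
  have hYL : Y ≤ L := by rw [h]; exact le_sup_right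
  have hcL : Nat.card ↥M * Nat.card ↥X = Nat.card ↥L := by
    have h1 : Nat.card ↥L = Nat.card ↥M * M.relIndex L := by
      have := relIndex_mul_relIndex (⊥ : Subgroup G) M L bot_le hML
      rw [relIndex_bot_left, relIndex_bot_left] at this
      exact this.symm
    rw [h1, hL, relIndex_sup_left]
    congr 1
    have h2 := relIndex_mul_relIndex (⊥ : Subgroup G) (M ⊓ X) X bot_le inf_le_right
    rw [relIndex_bot_left, relIndex_bot_left, inf_relIndex_right,
      (Subgroup.disjoint_of_coprime_natCard hcop).eq_bot, Subgroup.card_bot, one_mul] at h2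
    exact h2.symm
  apply conj_mem_of_subgroupOf hXL hYL
  have hcM : Nat.card ↥(M.subgroupOf L) = Nat.card ↥M := Nat.card_congr (subgroupOfEquivOfLe hML).toEquiv
  have hcX : Nat.card ↥(X.subgroupOf L) = Nat.card ↥X := Nat.card_congr (subgroupOfEquivOfLe hXL).toEquiv
  have hcY : Nat.card ↥(Y.subgroupOf L) = Nat.card ↥Y := Nat.card_congr (subgroupOfEquivOfLe hYL).toEquiv
  have hcomX : (M.subgroupOf L).IsComplement' (X.subgroupOf L) :=
    isComplement'_of_coprime (by rw [hcM, hcX, hcL]) (by rw [hcM, hcX]; exact hcop)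
  have hcomY : (M.subgroupOf L).IsComplement' (Y.subgroupOf L) :=
    isComplement'_of_coprime (by rw [hcM, hcY, ← hcard, hcL]) (by rw [hcM, hcY, ← hcard]; exact hcop)
  have hidx : (M.subgroupOf L).index = Nat.card ↥X := by
    have h1 := (M.subgroupOf L).card_mul_index
    rw [hcM, ← hcL] at h1
    exact Nat.eq_of_mul_eq_mul_left Nat.card_pos h1
  have hsol : Group.IsSolvable ↥(M.subgroupOf L) :=
    Group.isSolvable_of_isSolvable_injective (f := (subgroupOfEquivOfLe hML).toMonoidHom)
      (subgroupOfEquivOfLe hML).injective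
  obtain ⟨g, hg⟩ := Cfsg.Agent.S0001.result (M.subgroupOf L)
    (by rw [hcM, hidx]; exact hcop) (Or.inl hsol) (X.subgroupOf L) (Y.subgroupOf L) hcomX hcomY
  exact ⟨g, hg.symm⟩

/-- Lift of conjugacy: `M` coprime to the subgroups. -/
theorem conj_of_map_coprime {M X Y : Subgroup G} [hMn : M.Normal] (hMs : Group.IsSolvable ↥M)
    (hcard : Nat.card ↥X = Nat.card ↥Y) (hcop : (Nat.card ↥M).Coprime (Nat.card ↥X))
    (h : ∃ g : G ⧸ M, Y.map (QuotientGroup.mk' M) =
      (X.map (QuotientGroup.mk' M)).map (MulAut.conj g).toMonoidHom) :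
    ∃ g : G, Y = X.map (MulAut.conj g).toMonoidHom := by
  obtain ⟨gb, hg⟩ := h
  obtain ⟨g, rfl⟩ := QuotientGroup.mk'_surjective M gb
  rw [← map_conj_map] at hg
  set X' := X.map (MulAut.conj g).toMonoidHom with hX'
  have h1 := congrArg (Subgroup.comap (QuotientGroup.mk' M)) hg
  rw [Subgroup.comap_map_eq, Subgroup.comap_map_eq, QuotientGroup.ker_mk'] at h1
  have h2 : M ⊔ X' = M ⊔ Y := by rw [sup_comm M X', sup_comm M Y, h1]
  obtain ⟨t, -, ht⟩ := conj_of_sup_eq hMs (X := X') (Y := Y)
    (by rw [hX', card_map_conj, hcard]) (by rw [hX', card_map_conj]; exact hcop) h2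
  exact ⟨t * g, conj_trans_of hX' ht⟩

omit [Finite G] in
theorem card_map_mk_of_coprime {M X : Subgroup G} [M.Normal]
    (hcop : (Nat.card ↥M).Coprime (Nat.card ↥X)) :
    Nat.card ↥(X.map (QuotientGroup.mk' M)) = Nat.card ↥X := by
  have h1 := card_eq_inf_ker_mul (QuotientGroup.mk' M) X
  rw [QuotientGroup.ker_mk', (Subgroup.disjoint_of_coprime_natCard hcop).eq_bot, Subgroup.card_bot,
    one_mul] at h1
  exact h1.symm

omit [Finite G] in
theorem card_map_mk_of_le {M X : Subgroup G} [M.Normal] (h : M ≤ X) :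
    Nat.card ↥M * Nat.card ↥(X.map (QuotientGroup.mk' M)) = Nat.card ↥X := by
  have h1 := card_eq_ker_mul (QuotientGroup.mk' M) X (by rw [QuotientGroup.ker_mk']; exact h)
  rw [QuotientGroup.ker_mk'] at h1
  exact h1.symm

/-- A `p`-subgroup of the image is the image of a `p`-subgroup. -/
theorem exists_pgroup_map {G' : Type*} [Group G'] (f : G →* G') (hf : Function.Surjective f)
    {p : ℕ} [hp : Fact p.Prime] {R : Subgroup G'} (hR : IsPGroup p ↥R) :
    ∃ P : Subgroup G, IsPGroup p ↥P ∧ P.map f = R := by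
  have : Finite G' := Finite.of_surjective f hf
  let φ : ↥(R.comap f) →* ↥R := f.subgroupComap R
  have hφ : Function.Surjective φ := f.subgroupComap_surjective_of_surjective R hf
  obtain ⟨P⟩ : Nonempty (Sylow p ↥(R.comap f)) := inferInstance
  refine ⟨(P : Subgroup ↥(R.comap f)).map (R.comap f).subtype, P.isPGroup'.map _, ?_⟩
  have h1 : (P : Subgroup ↥(R.comap f)).map φ = ⊤ := by
    have h2 := (P.mapSurjective hφ).is_maximal' (Q := ⊤) (hR.of_equiv Subgroup.topEquiv.symm) le_top
    rw [← Sylow.coe_mapSurjective hφ P]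
    exact h2.symm
  have h3 : (R.subtype).comp φ = f.comp (R.comap f).subtype := by ext x; rfl
  rw [Subgroup.map_map, ← h3, ← Subgroup.map_map, h1, ← MonoidHom.range_eq_map, Subgroup.range_subtype]

end

theorem zpowers_eq_of_isCyclic {H : Type*} [Group H] [Finite H] [IsCyclic H] {q : ℕ}
    (hq : q.Prime) {x m : H} (hx : orderOf x = q) (hm : orderOf m = q) :
    Subgroup.zpowers x = Subgroup.zpowers m := by
  classical
  have : Fintype H := Fintype.ofFinite H
  have h1 := IsCyclic.card_pow_eq_one_le (α := H) (n := q) hq.pos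
  have h2 : ((Subgroup.zpowers m : Set H).toFinset) ⊆ Finset.univ.filter (fun a : H => a ^ q = 1) := by
    intro y hy
    rw [Set.mem_toFinset] at hy
    rw [Finset.mem_filter]
    refine ⟨Finset.mem_univ _, ?_⟩
    obtain ⟨k, rfl⟩ := Subgroup.mem_zpowers_iff.mp hy
    rw [← zpow_natCast, ← zpow_mul, mul_comm, zpow_mul, zpow_natCast, ← hm, pow_orderOf_eq_one,
      one_zpow]
  have h3 : ((Subgroup.zpowers m : Set H).toFinset).card = q := by
    rw [Set.toFinset_card, ← hm, ← Nat.card_zpowers, Nat.card_eq_fintype_card]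
    rfl
  have h4 := Finset.eq_of_subset_of_card_le h2 (by rw [h3]; exact h1)
  have h5 : x ∈ ((Subgroup.zpowers m : Set H).toFinset) := by
    rw [h4, Finset.mem_filter]
    exact ⟨Finset.mem_univ _, by rw [← hx, pow_orderOf_eq_one]⟩
  rw [Set.mem_toFinset] at h5
  apply Subgroup.eq_of_le_of_card_ge (Subgroup.zpowers_le.mpr h5)
  rw [Nat.card_zpowers, Nat.card_zpowers, hx, hm]

end Cfsg.Agent.H477
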