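import Mathlib
import Cfsg.Agent.H477.ActB

/-!
Let `M` be a normal elementary abelian subgroup of a solvable B-group and `1 < D < M`.
The Sylow `r`-subgroups of `N_G(D)` are cyclic for the primes `r` dividing `|N_G(D) : C_G(D)|`.
-/

set_option autoImplicit false

namespace Cfsg.Agent.H477

open Subgroup
open scoped IsMulCommutative

section Lin
variable {V : Type*} [CommGroup V] [Finite V]

omit [Finite V] in
theorem card_sup_zpowers_le (E : Subgroup V) {p : ℕ} (hp : p.Prime) (x : V) (hx : x ^ p = 1) :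
    Nat.card ↥(E ⊔ Subgroup.zpowers x) ≤ Nat.card ↥E * p := by
  have h1 := relIndex_mul_relIndex (⊥ : Subgroup V) E (E ⊔ Subgroup.zpowers x) bot_le le_sup_left
  rw [relIndex_bot_left, relIndex_bot_left, relIndex_sup_left] at h1
  rw [← h1]
  apply Nat.mul_le_mul_left
  have h2 : E.relIndex (Subgroup.zpowers x) ∣ p := by
    refine (relIndex_dvd_card E (Subgroup.zpowers x)).trans ?_
    rw [Nat.card_zpowers]
    exact orderOf_dvd_of_pow_eq_one hx
  exact Nat.le_of_dvd hp.pos h2

/-- In an elementary abelian group, a cyclic subgroup is an intersection of subgroups of any given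
order between `p` and the order of a maximal subgroup. -/
theorem exists_card_eq_not_mem {p : ℕ} [hp : Fact p.Prime] (hV : ∀ x : V, x ^ p = 1)
    (D : Subgroup V) (hD1 : D ≠ ⊥) (hD2 : D ≠ ⊤) (v w : V) (hw : w ∉ Subgroup.zpowers v) :
    ∃ E : Subgroup V, Nat.card ↥E = Nat.card ↥D ∧ v ∈ E ∧ w ∉ E := by
  classical
  have hpow : ∀ E : Subgroup V, ∃ k, Nat.card ↥E = p ^ k := fun E =>
    card_eq_pow_of_exponent hp.out (fun x _ => hV x)
  obtain ⟨d, hd⟩ := hpow D
  have hd1 : d ≠ 0 := by
    rintro rfl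
    rw [pow_zero, Subgroup.card_eq_one] at hd
    exact hD1 hd
  have hVcard : Nat.card ↥D < Nat.card V := by
    refine lt_of_le_of_ne (Subgroup.card_le_card_group D) ?_
    intro h
    exact hD2 (Subgroup.eq_top_of_card_eq D h)
  obtain ⟨E, hEmax⟩ := Set.Finite.exists_maximal
    (Set.toFinite {E : Subgroup V | v ∈ E ∧ w ∉ E ∧ Nat.card ↥E ≤ Nat.card ↥D})
    ⟨Subgroup.zpowers v, ⟨Subgroup.mem_zpowers v, hw, by
      rw [Nat.card_zpowers, hd]
      refine (Nat.le_of_dvd hp.out.pos (orderOf_dvd_of_pow_eq_one (hV v))).trans ?_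
      exact Nat.le_self_pow hd1 p⟩⟩
  obtain ⟨hvE, hwE, hEc⟩ := hEmax.1
  refine ⟨E, ?_, hvE, hwE⟩
  by_contra hne
  have hlt : Nat.card ↥E < Nat.card ↥D := lt_of_le_of_ne hEc hne
  obtain ⟨e, he⟩ := hpow E
  have hep : Nat.card ↥E * p ≤ Nat.card ↥D := by
    rw [he, hd] at hlt ⊢
    have h1 : e < d := (Nat.pow_lt_pow_iff_right hp.out.one_lt).mp hlt
    rw [← pow_succ]
    exact Nat.pow_le_pow_right hp.out.pos h1
  obtain ⟨x, hx⟩ : ∃ x, x ∉ E ⊔ Subgroup.zpowers w := by
    by_contra h
    push Not at h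
    have h1 : E ⊔ Subgroup.zpowers w = ⊤ := by
      rw [eq_top_iff]; intro x _; exact h x
    have h2 := card_sup_zpowers_le E hp.out w (hV w)
    rw [h1, Subgroup.card_top] at h2
    omega
  have hE' : E ⊔ Subgroup.zpowers x ∈
      {E : Subgroup V | v ∈ E ∧ w ∉ E ∧ Nat.card ↥E ≤ Nat.card ↥D} := by
    refine ⟨(le_sup_left : E ≤ E ⊔ Subgroup.zpowers x) hvE, ?_,
      (card_sup_zpowers_le E hp.out x (hV x)).trans hep⟩
    intro hwm
    obtain ⟨y, hy, z, hz, hyz⟩ := Subgroup.mem_sup.mp hwm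
    by_cases hz1 : z = 1
    · rw [hz1, mul_one] at hyz
      exact hwE (hyz ▸ hy)
    · have h1 : Subgroup.zpowers z = Subgroup.zpowers x := by
        apply Subgroup.eq_of_le_of_card_ge (Subgroup.zpowers_le.mpr hz)
        rw [Nat.card_zpowers, Nat.card_zpowers, orderOf_eq_prime (hV z) hz1]
        exact Nat.le_of_dvd hp.out.pos (orderOf_dvd_of_pow_eq_one (hV x))
      apply hx
      have h2 : z ∈ E ⊔ Subgroup.zpowers w := by
        have h3 : z = y⁻¹ * w := by rw [← hyz, inv_mul_cancel_left]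
        rw [h3]
        exact Subgroup.mul_mem _ ((le_sup_left : E ≤ E ⊔ Subgroup.zpowers w) (E.inv_mem hy))
          ((le_sup_right : Subgroup.zpowers w ≤ E ⊔ Subgroup.zpowers w) (Subgroup.mem_zpowers w))
      have h3 : Subgroup.zpowers x ≤ E ⊔ Subgroup.zpowers w := by
        rw [← h1]; exact Subgroup.zpowers_le.mpr h2
      exact h3 (Subgroup.mem_zpowers x)
  have h4 := hEmax.2 hE' le_sup_left
  have h5 : x ∈ E := h4 ((le_sup_right : Subgroup.zpowers x ≤ _) (Subgroup.mem_zpowers x))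
  exact hx ((le_sup_left : E ≤ E ⊔ Subgroup.zpowers w) h5)

end Lin

section Act
variable {G : Type*} [Group G] [Finite G] (M : Subgroup G) [M.Normal] [IsMulCommutative ↥M]

/-- Conjugation action on a normal abelian subgroup, in the endomorphism ring. -/
def actEnd : G →* AddMonoid.End (Additive ↥M) where
  toFun g := MonoidHom.toAdditive (MulAut.conjNormal g : MulAut ↥M).toMonoidHom
  map_one' := by
    apply AddMonoidHom.ext
    intro x
    change Additive.ofMul ((MulAut.conjNormal (1 : G) : MulAut ↥M) x.toMul) = x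
    rw [map_one]
    rfl
  map_mul' g h := by
    apply AddMonoidHom.ext
    intro x
    change Additive.ofMul ((MulAut.conjNormal (g * h) : MulAut ↥M) x.toMul) =
      Additive.ofMul ((MulAut.conjNormal g : MulAut ↥M) ((MulAut.conjNormal h : MulAut ↥M) x.toMul))
    rw [map_mul]
    rfl

omit [Finite G] in
theorem actEnd_apply (g : G) (x : Additive ↥M) :
    ((actEnd M g x).toMul : G) = g * ((x.toMul : ↥M) : G) * g⁻¹ := rfl

omit [Finite G] in
theorem mem_actEnd_ker (g : G) : g ∈ (actEnd M).ker ↔ ∀ m ∈ M, g * m = m * g := by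
  rw [MonoidHom.mem_ker]
  constructor
  · intro h m hm
    have h1 := congrArg (fun f : AddMonoid.End (Additive ↥M) => ((f (Additive.ofMul ⟨m, hm⟩)).toMul : G)) h
    simp only [actEnd_apply] at h1
    change g * m * g⁻¹ = m at h1
    rwa [mul_inv_eq_iff_eq_mul] at h1
  · intro h
    apply AddMonoidHom.ext
    intro x
    have h1 : ((actEnd M g x).toMul : G) = ((x.toMul : ↥M) : G) := by
      rw [actEnd_apply, mul_inv_eq_iff_eq_mul]
      exact h _ x.toMul.2
    exact congrArg Additive.ofMul (Subtype.ext h1)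

/-- The action of `G / C_G(M)` on `M`. -/
def actQuot : G ⧸ (actEnd M).ker →* AddMonoid.End (Additive ↥M) :=
  QuotientGroup.lift (actEnd M).ker (actEnd M) (fun _ h => h)

omit [Finite G] in
theorem actQuot_mk (g : G) : actQuot M (QuotientGroup.mk g) = actEnd M g := rfl

omit [Finite G] in
theorem actQuot_injective : Function.Injective (actQuot M) := by
  rw [injective_iff_map_eq_one]
  intro x hx
  obtain ⟨g, rfl⟩ := QuotientGroup.mk_surjective x
  rw [actQuot_mk] at hx
  exact (QuotientGroup.eq_one_iff g).mpr hx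

omit [Finite G] in
theorem IsB.lineTrans_actEnd (hB : IsB G) {p : ℕ} [hp : Fact p.Prime] (hMp : ∀ x ∈ M, x ^ p = 1) :
    LineTrans (actQuot M) := by
  intro v w hv hw
  have hord : ∀ x : Additive ↥M, x ≠ 0 → orderOf ((x.toMul : ↥M) : G) = p := by
    intro x hx
    apply orderOf_eq_prime (hMp _ x.toMul.2)
    intro h
    exact hx (congrArg Additive.ofMul (Subtype.ext h))
  obtain ⟨g, hg⟩ := hB (Subgroup.zpowers ((w.toMul : ↥M) : G)) (Subgroup.zpowers ((v.toMul : ↥M) : G))
    inferInstance inferInstance (by rw [Nat.card_zpowers, Nat.card_zpowers, hord v hv, hord w hw])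
  have h1 : ((v.toMul : ↥M) : G) ∈
      (Subgroup.zpowers ((w.toMul : ↥M) : G)).map (MulAut.conj g).toMonoidHom := by
    rw [← hg]; exact Subgroup.mem_zpowers _
  obtain ⟨y, hy, hyv⟩ := h1
  obtain ⟨k, hk⟩ := Subgroup.mem_zpowers_iff.mp hy
  refine ⟨(QuotientGroup.mk g⁻¹ : G ⧸ (actEnd M).ker), k, ?_⟩
  rw [actQuot_mk]
  have h2 : ((actEnd M g⁻¹ v).toMul : G) = (((k • w : Additive ↥M).toMul : ↥M) : G) := by
    rw [actEnd_apply, inv_inv]
    have h3 : (((k • w : Additive ↥M).toMul : ↥M) : G) = ((w.toMul : ↥M) : G) ^ k := rfl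
    rw [h3, hk, ← hyv]
    simp [mul_assoc]
  exact congrArg Additive.ofMul (Subtype.ext h2)

theorem isCyclic_of_lt_q8 {R₂ R : Subgroup G} (hQ : IsQ8 ↥R₂) (hle : R ≤ R₂) (hne : R ≠ R₂) :
    IsCyclic ↥R := by
  have h1 := Subgroup.card_dvd_of_le hle
  rw [hQ.card] at h1
  have h2 : Nat.card ↥R ∈ Nat.divisors 8 := Nat.mem_divisors.mpr ⟨h1, by norm_num⟩
  have h3 : Nat.divisors 8 = {1, 2, 4, 8} := by decide
  rw [h3] at h2
  simp only [Finset.mem_insert, Finset.mem_singleton] at h2
  rcases h2 with h | h | h | h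
  · rw [Subgroup.card_eq_one] at h
    rw [h]
    exact isCyclic_of_subsingleton
  · have : Fact (Nat.Prime 2) := ⟨Nat.prime_two⟩
    exact isCyclic_of_prime_card h
  · -- order four
    by_cases hx : ∀ x : ↥R, x ^ 2 = 1
    · exfalso
      have hx' : ∀ x ∈ R, x ^ 2 = 1 := fun x hxR => congrArg Subtype.val (hx ⟨x, hxR⟩)
      have hnt : R ≠ ⊥ := by
        rintro rfl
        rw [Subgroup.card_bot] at h
        omega
      obtain ⟨⟨x, hxR⟩, hx1⟩ := Subgroup.ne_bot_iff_exists_ne_one.mp hnt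
      have hx1 : x ≠ 1 := fun h => hx1 (Subtype.ext h)
      have hle2 : R ≤ Subgroup.zpowers x := by
        intro y hy
        have h4 := hQ.inv ⟨x, hle hxR⟩ ⟨y, hle hy⟩ (Subtype.ext (hx' x hxR))
          (Subtype.ext (hx' y hy))
        rcases h4 with h5 | h5 | h5
        · exact absurd (congrArg Subtype.val h5) hx1
        · have : y = 1 := congrArg Subtype.val h5
          rw [this]; exact Subgroup.one_mem _
        · have : x = y := congrArg Subtype.val h5
          rw [← this]; exact Subgroup.mem_zpowers _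
      have h6 := Subgroup.card_le_of_le hle2
      rw [h, Nat.card_zpowers] at h6
      have h7 : orderOf x ≤ 2 :=
        Nat.le_of_dvd (by norm_num) (orderOf_dvd_of_pow_eq_one (hx' x hxR))
      omega
    · push Not at hx
      obtain ⟨x, hx⟩ := hx
      apply isCyclic_of_orderOf_eq_card x
      have h4 : orderOf x ∣ 4 := by rw [← h]; exact orderOf_dvd_natCard x
      have h8 : orderOf x ∈ Nat.divisors 4 := Nat.mem_divisors.mpr ⟨h4, by norm_num⟩
      have h9 : Nat.divisors 4 = {1, 2, 4} := by decide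
      rw [h9] at h8
      simp only [Finset.mem_insert, Finset.mem_singleton] at h8
      rw [h]
      rcases h8 with h5 | h5 | h5
      · exact absurd (orderOf_dvd_iff_pow_eq_one.mp (by rw [h5]; norm_num)) hx
      · exact absurd (orderOf_dvd_iff_pow_eq_one.mp (by rw [h5])) hx
      · exact h5
  · exact absurd (Subgroup.eq_of_le_of_card_ge hle (by rw [hQ.card, h])) hne

/-- A normal subgroup normalising a proper nontrivial subgroup `D` of `M` acts on `M` by power
maps, if all subgroups of order `|D|` are conjugate. -/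
theorem IsB.conj_mem_zpowers (hB : IsB G) {p : ℕ} [hp : Fact p.Prime] (hMp : ∀ x ∈ M, x ^ p = 1)
    {D : Subgroup G} (hDM : D ≤ M) (hD1 : D ≠ ⊥) (hD2 : D ≠ M) {L : Subgroup G} [hL : L.Normal]
    (hLD : L ≤ normalizer (D : Set G)) : ∀ l ∈ L, ∀ v ∈ M, l * v * l⁻¹ ∈ Subgroup.zpowers v := by
  have hMc : IsMulCommutative ↥M := inferInstance
  -- `L` normalises all subgroups of `M` of order `|D|`
  have hnorm : ∀ E : Subgroup G, E ≤ M → Nat.card ↥E = Nat.card ↥D →
      ∀ l ∈ L, ∀ v ∈ E, l * v * l⁻¹ ∈ E := by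
    intro E hEM hE l hl v hv
    obtain ⟨g, hg⟩ := hB D E (isMulCommutative_mono hDM hMc) (isMulCommutative_mono hEM hMc) hE.symm
    rw [hg] at hv ⊢
    obtain ⟨d, hd, rfl⟩ := hv
    have hl' : g⁻¹ * l * g ∈ L := by
      have := hL.conj_mem l hl g⁻¹
      rwa [inv_inv] at this
    have h1 := (Subgroup.mem_normalizer_iff.mp (hLD hl') d).mp hd
    refine ⟨_, h1, ?_⟩
    simp [mul_assoc]
  intro l hl v hv
  by_contra hcon
  have hw : l * v * l⁻¹ ∈ M := (inferInstance : M.Normal).conj_mem v hv l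
  have hD1' : D.subgroupOf M ≠ ⊥ := by
    intro h
    apply hD1
    rw [← Subgroup.map_subgroupOf_eq_of_le hDM, h, Subgroup.map_bot]
  have hD2' : D.subgroupOf M ≠ ⊤ := by
    intro h
    apply hD2
    rw [← Subgroup.map_subgroupOf_eq_of_le hDM, h, ← MonoidHom.range_eq_map, Subgroup.range_subtype]
  obtain ⟨E, hE, hvE, hwE⟩ := exists_card_eq_not_mem (V := ↥M) (p := p)
    (fun x => Subtype.ext (hMp x x.2)) (D.subgroupOf M) hD1' hD2' ⟨v, hv⟩ ⟨l * v * l⁻¹, hw⟩ (by
      intro h
      apply hcon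
      obtain ⟨k, hk⟩ := Subgroup.mem_zpowers_iff.mp h
      exact Subgroup.mem_zpowers_iff.mpr ⟨k, congrArg Subtype.val hk⟩)
  have hcE : Nat.card ↥(E.map M.subtype) = Nat.card ↥D := by
    rw [Subgroup.card_map_of_injective M.subtype_injective, hE]
    exact Nat.card_congr (subgroupOfEquivOfLe hDM).toEquiv
  have h1 := hnorm (E.map M.subtype) (Subgroup.map_subtype_le E) hcE l hl v ⟨⟨v, hv⟩, hvE, rfl⟩
  obtain ⟨⟨y, hy⟩, hyE, hyw⟩ := h1
  apply hwE
  have : (⟨y, hy⟩ : ↥M) = ⟨l * v * l⁻¹, hw⟩ := Subtype.ext hyw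
  rwa [← this]

/-- **The `r`-subgroups of `N_G(D)` are cyclic for the primes `r` dividing `|N_G(D) : C_G(D)|`.** -/
theorem IsB.isCyclic_of_dvd [hs : Group.IsSolvable G] (hB : IsB G) {p : ℕ} [hp : Fact p.Prime]
    (hMp : ∀ x ∈ M, x ^ p = 1) {D : Subgroup G} (hDM : D ≤ M) (hD1 : D ≠ ⊥) (hD2 : D ≠ M)
    {r : ℕ} [hr : Fact r.Prime]
    (hrd : r ∣ (centralizer (D : Set G)).relIndex (normalizer (D : Set G)))
    {R : Subgroup G} (hR : R ≤ normalizer (D : Set G)) (hRr : IsPGroup r ↥R) : IsCyclic ↥R := by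
  classical
  set K := (actEnd M).ker with hK
  have hKmem : ∀ g, g ∈ K ↔ ∀ m ∈ M, g * m = m * g := mem_actEnd_ker M
  have hKD : K ≤ centralizer (D : Set G) := by
    intro g hg
    rw [mem_centralizer_iff]
    intro d hd
    exact ((hKmem g).mp hg d (hDM hd)).symm
  have hrK : r ∣ K.index :=
    (hrd.trans (relIndex_dvd_of_le_left _ hKD)).trans (relIndex_dvd_index_of_normal _ _)
  obtain ⟨R₂, hR₂⟩ := hRr.exists_le_sylow
  have hnle : ¬ (R₂ : Subgroup G) ≤ K := by
    intro h
    exact R₂.not_dvd_index (hrK.trans (Subgroup.index_dvd_of_le h))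
  have hnt : Nontrivial (Additive ↥M) := by
    have h1 : M ≠ ⊥ := by
      rintro rfl
      exact hD1 (le_bot_iff.mp hDM)
    have h2 : Nontrivial ↥M := (Subgroup.nontrivial_iff_ne_bot M).mpr h1
    exact h2
  have hBΓ : IsB (G ⧸ K) := hB.quot_of_solvable K hs
  have hK1 := hBΓ.sylow_of_lineTrans (actQuot M) (actQuot_injective M)
    (hB.lineTrans_actEnd M hMp) r (R₂.mapSurjective (QuotientGroup.mk'_surjective K))
  set π := QuotientGroup.mk' K with hπ
  have hcoe : ((R₂.mapSurjective (QuotientGroup.mk'_surjective K) : Sylow r (G ⧸ K)) :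
      Subgroup (G ⧸ K)) = (R₂ : Subgroup G).map π := rfl
  rw [hcoe] at hK1
  have hmemK : ∀ x : G, π x = 1 → x ∈ K := fun x hx => (QuotientGroup.eq_one_iff x).mp hx
  -- the homomorphism onto the Sylow subgroup of the quotient
  let f : ↥(R₂ : Subgroup G) →* ↥((R₂ : Subgroup G).map π) := π.subgroupMap (R₂ : Subgroup G)
  have hfs : Function.Surjective f := π.subgroupMap_surjective _
  have hfker : ∀ x, f x = 1 → (x : G) ∈ K := by
    intro x hx
    apply hmemK
    exact congrArg Subtype.val hx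
  have hinj : (R₂ : Subgroup G) ⊓ K = ⊥ → Function.Injective f := by
    intro h
    rw [injective_iff_map_eq_one]
    intro x hx
    have h1 : (x : G) ∈ (R₂ : Subgroup G) ⊓ K := ⟨x.2, hfker x hx⟩
    rw [h, Subgroup.mem_bot] at h1
    exact Subtype.ext h1
  rcases hB.sylow_cases r R₂ with h | ⟨hc, hr1⟩ | ⟨hr2, hQ⟩
  · exact isCyclic_of_injective (Subgroup.inclusion hR₂) (Subgroup.inclusion_injective hR₂)
  · have hbot : (R₂ : Subgroup G) ⊓ K = ⊥ := by
      by_contra h
      exact hnle (hB.le_of_inf_ne_bot hr1 h)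
    rcases hK1 with h | ⟨-, hQ, -⟩
    · have : IsCyclic ↥(R₂ : Subgroup G) := isCyclic_of_injective f (hinj hbot)
      exact isCyclic_of_injective (Subgroup.inclusion hR₂) (Subgroup.inclusion_injective hR₂)
    · exfalso
      apply hQ.noncomm
      intro x y
      obtain ⟨x, rfl⟩ := hfs x
      obtain ⟨y, rfl⟩ := hfs y
      rw [← map_mul, ← map_mul, hc]
  · subst hr2
    have hsq := hB.sq_eq_one_of_mem hQ hnle
    have hcent : f.ker ≤ Subgroup.center ↥(R₂ : Subgroup G) := by
      intro x hx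
      rw [Subgroup.mem_center_iff]
      intro y
      exact (hQ.sq x y (Subtype.ext (hsq x x.2 (hfker x hx)))).symm
    rcases hK1 with h | ⟨-, hQ', hnorm⟩
    · exfalso
      apply hQ.noncomm
      have h1 : IsMulCommutative ↥(R₂ : Subgroup G) :=
        MonoidHom.isMulCommutative_of_isCyclic_of_ker_le_center f hcent
      exact h1.is_comm.comm
    · apply isCyclic_of_lt_q8 hQ hR₂
      intro hRR
      -- `R₂` normalises `D`
      rw [hRR] at hR
      have hfinj : Function.Injective f := by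
        have h1 : Function.Bijective f := by
          rw [Nat.bijective_iff_surjective_and_card]
          exact ⟨hfs, by rw [hQ.card, hQ'.card]⟩
        exact h1.1
      set L := ((R₂ : Subgroup G).map π).comap π with hL
      have hLn : L.Normal := inferInstance
      have hLD : L ≤ normalizer (D : Set G) := by
        rw [hL, Subgroup.comap_map_eq]
        apply sup_le hR
        rw [hπ, QuotientGroup.ker_mk']
        exact hKD.trans (Subgroup.centralizer_le_normalizer _)
      have hpow := hB.conj_mem_zpowers M hMp hDM hD1 hD2 hLD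
      have hRL : (R₂ : Subgroup G) ≤ L := Subgroup.le_comap_map _ _
      apply hQ.noncomm
      intro x y
      -- the commutator acts trivially on `M`
      have hcommM : ∀ l ∈ L, ∀ l' ∈ L, ∀ m ∈ M, (l * l') * m * (l * l')⁻¹ = (l' * l) * m * (l' * l)⁻¹ := by
        intro l hl l' hl' m hm
        obtain ⟨k, hk⟩ := Subgroup.mem_zpowers_iff.mp (hpow l hl m hm)
        obtain ⟨k', hk'⟩ := Subgroup.mem_zpowers_iff.mp (hpow l' hl' m hm)
        have h1 : (l * l') * m * (l * l')⁻¹ = l * (l' * m * l'⁻¹) * l⁻¹ := by group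
        have h2 : (l' * l) * m * (l' * l)⁻¹ = l' * (l * m * l⁻¹) * l'⁻¹ := by group
        rw [h1, h2, ← hk, ← hk', ← conj_zpow, ← conj_zpow, ← hk, ← hk', ← zpow_mul, ← zpow_mul,
          mul_comm]
      have hcK : (x : G)⁻¹ * (y : G)⁻¹ * (x * y) ∈ K := by
        rw [hKmem]
        intro m hm
        have h1 := hcommM x (hRL x.2) y (hRL y.2) m hm
        have h2 : (y * x : G)⁻¹ * ((x * y) * m * (x * y : G)⁻¹) * (y * x) = m := by
          rw [h1]; group
        calc (x : G)⁻¹ * (y : G)⁻¹ * (x * y) * m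
            = ((y * x : G)⁻¹ * ((x * y) * m * (x * y : G)⁻¹) * (y * x)) *
                ((x : G)⁻¹ * (y : G)⁻¹ * (x * y)) := by group
          _ = m * ((x : G)⁻¹ * (y : G)⁻¹ * (x * y)) := by rw [h2]
      have h3 : f (x⁻¹ * y⁻¹ * (x * y)) = 1 := by
        apply Subtype.ext
        exact (QuotientGroup.eq_one_iff _).mpr hcK
      have h4 : x⁻¹ * y⁻¹ * (x * y) = 1 := hfinj (by rw [h3, map_one])
      calc x * y = y * x * (x⁻¹ * y⁻¹ * (x * y)) := by group
        _ = y * x := by rw [h4, mul_one]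

end Act

end Cfsg.Agent.H477
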