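import Mathlib
import Cfsg.Agent.H477.Lift

/-!
In a finite solvable group, two subgroups `X`, `Y` of the same order are conjugate if the
`r`-subgroups of the group are cyclic for all primes `r` dividing `|X|`.
-/

set_option autoImplicit false

namespace Cfsg.Agent.H477

open Subgroup

/-- A normal elementary abelian `q`-subgroup is contained in every subgroup of order divisible by
`q`, if `q`-subgroups are cyclic. -/
theorem le_of_cyclic_pgroups {G : Type*} [Group G] [Finite G] {q : ℕ} [hq : Fact q.Prime]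
    {M X : Subgroup G} [M.Normal] (hM : M ≠ ⊥) (hMq : ∀ x ∈ M, x ^ q = 1)
    (hcyc : ∀ R : Subgroup G, IsPGroup q ↥R → IsCyclic ↥R) (hX : q ∣ Nat.card ↥X) : M ≤ X := by
  have hMp : IsPGroup q ↥M := by
    intro x
    exact ⟨1, by rw [pow_one]; exact Subtype.ext (hMq x x.2)⟩
  have hMc : IsCyclic ↥M := hcyc M hMp
  obtain ⟨m, hm⟩ := IsCyclic.exists_ofOrder_eq_natCard (α := ↥M)
  have hm1 : m ≠ 1 := by
    rintro rfl
    rw [orderOf_one] at hm
    exact hM (Subgroup.card_eq_one.mp hm.symm)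
  have hmq : orderOf m = q := orderOf_eq_prime (Subtype.ext (hMq m m.2)) hm1
  have hMz : Subgroup.zpowers (m : G) = M := by
    apply Subgroup.eq_of_le_of_card_ge (Subgroup.zpowers_le.mpr m.2)
    rw [Nat.card_zpowers, Subgroup.orderOf_coe, hm]
  obtain ⟨x, hx⟩ := exists_prime_orderOf_dvd_card' (G := ↥X) q hX
  have hxo : orderOf (x : G) = q := by rw [Subgroup.orderOf_coe, hx]
  have hzp : IsPGroup q ↥(Subgroup.zpowers (x : G)) := by
    apply IsPGroup.of_card (n := 1)
    rw [Nat.card_zpowers, hxo, pow_one]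
  set H := M ⊔ Subgroup.zpowers (x : G) with hH
  have hHp : IsPGroup q ↥H := IsPGroup.to_sup_of_normal_left hMp hzp
  have hHc : IsCyclic ↥H := hcyc H hHp
  have hmH : (m : G) ∈ H := (le_sup_left : M ≤ H) m.2
  have hxH : (x : G) ∈ H := (le_sup_right : Subgroup.zpowers (x : G) ≤ H) (Subgroup.mem_zpowers _)
  have h1 := zpowers_eq_of_isCyclic hq.out (x := (⟨x, hxH⟩ : ↥H)) (m := ⟨m, hmH⟩)
    (by rw [Subgroup.orderOf_mk, hxo]) (by rw [Subgroup.orderOf_mk, Subgroup.orderOf_coe, hmq])
  have h2 := congrArg (Subgroup.map H.subtype) h1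
  rw [MonoidHom.map_zpowers, MonoidHom.map_zpowers] at h2
  change Subgroup.zpowers (x : G) = Subgroup.zpowers (m : G) at h2
  rw [← hMz, ← h2]
  exact Subgroup.zpowers_le.mpr x.2

theorem conj_of_cyclic_aux (n : ℕ) : ∀ (G : Type*) [Group G] [Finite G], Nat.card G = n →
    Group.IsSolvable G → ∀ X Y : Subgroup G, Nat.card ↥X = Nat.card ↥Y →
    (∀ (r : ℕ), r.Prime → r ∣ Nat.card ↥X → ∀ R : Subgroup G, IsPGroup r ↥R → IsCyclic ↥R) →
    ∃ g : G, Y = X.map (MulAut.conj g).toMonoidHom := by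
  induction n using Nat.strong_induction_on with
  | _ n ih =>
  intro G _ _ hn hs X Y hcard hcyc
  by_cases htop : (⊤ : Subgroup G) = ⊥
  · have h1 : Subsingleton (Subgroup G) := subsingleton_of_bot_eq_top htop.symm
    exact ⟨1, Subsingleton.elim _ _⟩
  obtain ⟨M, q, hMn, -, hne, hq, hMc, hMq⟩ := exists_elem_normal (⊤ : Subgroup G) htop
  obtain ⟨t, ht⟩ := card_eq_pow_of_exponent hq hMq
  have : Fact q.Prime := ⟨hq⟩
  have hlt : Nat.card (G ⧸ M) < n := by
    rw [← hn, ← Subgroup.index_eq_card, ← M.index_mul_card]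
    apply lt_mul_of_one_lt_right
    · exact Nat.pos_of_ne_zero Subgroup.index_ne_zero_of_finite
    · exact (Subgroup.one_lt_card_iff_ne_bot _).mpr hne
  set π := QuotientGroup.mk' M with hπ
  have hπs : Function.Surjective π := QuotientGroup.mk'_surjective M
  have hIH : Nat.card ↥(X.map π) = Nat.card ↥(Y.map π) →
      ∃ g : G ⧸ M, Y.map π = (X.map π).map (MulAut.conj g).toMonoidHom := by
    intro h
    apply ih _ hlt (G ⧸ M) rfl inferInstance (X.map π) (Y.map π) h
    intro r hr hrd R hR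
    have : Fact r.Prime := ⟨hr⟩
    obtain ⟨P, hP, hPR⟩ := exists_pgroup_map π hπs hR
    have hPc := hcyc r hr (hrd.trans (Subgroup.card_map_dvd (H := X) π)) P hP
    rw [← hPR]
    exact isCyclic_of_surjective (π.subgroupMap P) (π.subgroupMap_surjective P)
  by_cases hqX : q ∣ Nat.card ↥X
  · have hMX : M ≤ X := le_of_cyclic_pgroups hne hMq (hcyc q hq hqX) hqX
    have hMY : M ≤ Y := le_of_cyclic_pgroups hne hMq (hcyc q hq hqX) (hcard ▸ hqX)
    have hc : Nat.card ↥(X.map π) = Nat.card ↥(Y.map π) := by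
      have h1 := card_map_mk_of_le hMX
      have h2 := card_map_mk_of_le hMY
      apply Nat.eq_of_mul_eq_mul_left (Nat.card_pos (α := ↥M))
      rw [h1, h2, hcard]
    have hker : π.ker = M := QuotientGroup.ker_mk' M
    exact conj_of_map π hπs (by rw [hker]; exact hMX) (by rw [hker]; exact hMY) (hIH hc)
  · have hcop : (Nat.card ↥M).Coprime (Nat.card ↥X) := by
      rw [ht]
      exact Nat.Coprime.pow_left t (hq.coprime_iff_not_dvd.mpr hqX)
    have hMs : Group.IsSolvable ↥M := inferInstance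
    apply conj_of_map_coprime hMs hcard hcop
    apply hIH
    rw [card_map_mk_of_coprime hcop, card_map_mk_of_coprime (hcard ▸ hcop), hcard]

/-- **Conjugacy of subgroups whose primes have cyclic Sylow subgroups.** -/
theorem conj_of_cyclic {G : Type*} [Group G] [Finite G] [hs : Group.IsSolvable G] {X Y : Subgroup G}
    (hcard : Nat.card ↥X = Nat.card ↥Y)
    (hcyc : ∀ (r : ℕ), r.Prime → r ∣ Nat.card ↥X → ∀ R : Subgroup G, IsPGroup r ↥R → IsCyclic ↥R) :
    ∃ g : G, Y = X.map (MulAut.conj g).toMonoidHom :=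
  conj_of_cyclic_aux _ G rfl hs X Y hcard hcyc

end Cfsg.Agent.H477
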